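import Groth.Agent.CliffSplit.Hyp
import Groth.Agent.QEtSplit.Basic
import Mathlib.RingTheory.Etale.Pi
import Mathlib.RingTheory.Spectrum.Prime.Topology

/-! Splitting the Clifford algebra of a regular form of even rank after a faithfully flat extension. -/

namespace Groth.Agent.CliffSplit

open CliffordAlgebra Matrix Groth.Agent.QFormLib
open scoped TensorProduct

universe u

variable {A : Type u} [CommRing A]

/-- The index of `x_{2k}` for the left and of `x_{2k+1}` for the right summand. -/
def pairIdx (m : ℕ) : Fin m ⊕ Fin m → Fin (2 * m) :=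
  Sum.elim (fun k => ⟨2 * k, by omega⟩) (fun k => ⟨2 * k + 1, by omega⟩)

theorem pairIdx_bijective (m : ℕ) : Function.Bijective (pairIdx m) := by
  refine (Fintype.bijective_iff_injective_and_card _).2 ⟨?_, by simp [two_mul]⟩
  rintro (i | i) (j | j) h <;> simp [pairIdx, Fin.ext_iff] at h <;>
    first | omega | (exact congrArg _ (Fin.ext (by omega)))

/-- The hyperbolic form. -/
noncomputable def hyp (B : Type u) [CommRing B] (m : ℕ) : QuadraticForm B (Fin (2 * m) → B) :=
  ∑ i : Fin m, -QuadraticMap.linMulLin (LinearMap.proj (⟨2 * i, by omega⟩ : Fin (2 * m)))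
    (LinearMap.proj (⟨2 * i + 1, by omega⟩ : Fin (2 * m)))

theorem hyp_apply (B : Type u) [CommRing B] (m : ℕ) (x : Fin (2 * m) → B) :
    hyp B m x = ∑ i : Fin m, -(x ⟨2 * i, by omega⟩ * x ⟨2 * i + 1, by omega⟩) := by
  simp [hyp]

section Point

variable {V : Type u} [AddCommGroup V] [Module A V] {m : ℕ}
  (b : Module.Basis (Fin (2 * m)) A V) (Q : QuadraticForm A V)

/-- At every prime an etale extension turns the form into the hyperbolic one. -/
theorem exists_compat_at (hQ : QuadGrp.IsRegular Q) (p : PrimeSpectrum A) :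
    ∃ (C : Type u) (_ : CommRing C) (_ : Algebra A C) (P : PrimeSpectrum C),
      Algebra.Etale A C ∧ P.asIdeal.comap (algebraMap A C) = p.asIdeal ∧
      ∃ c : Module.Basis (Fin (2 * m)) C (Fin (2 * m) → C), Compat (algebraMap A C) b Q c (hyp C m) := by
  classical
  let a := QuadGrp.coeffs b (LinearEquiv.refl A A) Q
  let B0 : Matrix (Fin (2 * m)) (Fin (2 * m)) A := upperMat a
  have hS : B0 + B0ᵀ = polMat b Q := by
    ext i j
    simp only [B0, Matrix.add_apply, Matrix.transpose_apply, upperMat, Matrix.of_apply, polMat, a]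
    rcases lt_trichotomy i j with h | rfl | h
    · rw [if_pos h.le, if_neg (not_le.2 h), coeffs_off b Q h.ne, add_zero]
    · rw [if_pos le_rfl, coeffs_diag b Q, QuadraticMap.polar_self, two_nsmul]
    · rw [if_neg (not_le.2 h), if_pos h.le, coeffs_off b Q h.ne, zero_add, QuadraticMap.polar_comm]
  obtain ⟨C, _, _, L, _, ψ, j, g, h, het, hψ, hgh, hhg, hg⟩ := QEtSplit.exists_split_at m A _ B0
    (hS ▸ isUnit_det_polMat b Q hQ) (by simp [two_mul]) p.asIdeal.ResidueField
    (algebraMap A p.asIdeal.ResidueField)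
  refine ⟨C, inferInstance, inferInstance, ⟨RingHom.ker ψ, RingHom.ker_isPrime ψ⟩, het, ?_, ?_⟩
  · rw [RingHom.comap_ker, hψ, RingHom.ker_comp_of_injective _ j.injective, Ideal.ker_algebraMap_residueField]
  let π := Equiv.ofBijective (pairIdx m) (pairIdx_bijective m)
  let sg : Fin m ⊕ Fin m → C := Sum.elim (fun _ => -1) (fun _ => 1)
  have hsg : ∀ k, sg k * sg k = 1 := by rintro (k | k) <;> simp [sg]
  let e : (Fin (2 * m) → C) ≃ₗ[C] (Fin (2 * m) → C) :=
    { toFun := fun y k => sg (π.symm k) * (h *ᵥ y) (π.symm k)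
      map_add' := fun y z => by funext k; simp [Matrix.mulVec_add, mul_add]
      map_smul' := fun r y => by funext k; simp [Matrix.mulVec_smul, mul_left_comm]
      invFun := fun x => g *ᵥ fun k => sg k * x (π k)
      left_inv := fun y => by
        show g *ᵥ (fun k => sg k * (sg (π.symm (π k)) * (h *ᵥ y) (π.symm (π k)))) = y
        simp only [Equiv.symm_apply_apply, ← mul_assoc, hsg, one_mul]
        rw [Matrix.mulVec_mulVec, hgh, Matrix.one_mulVec]
      right_inv := fun x => by
        funext k
        simp only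
        rw [Matrix.mulVec_mulVec, hhg, Matrix.one_mulVec, ← mul_assoc, hsg, one_mul, Equiv.apply_symm_apply] }
  let c : Module.Basis (Fin (2 * m)) C (Fin (2 * m) → C) := (Pi.basisFun C _).map e
  refine ⟨c, ?_⟩
  have hval : ∀ y, hyp C m (e y) = formOfTbl (algebraMap A C ∘ a) y := fun y => by
    have h1 := hg (h *ᵥ y)
    rw [Matrix.mulVec_mulVec, hgh, Matrix.one_mulVec] at h1
    have h2 : formOfTbl (algebraMap A C ∘ a) y = QEtSplit.q (B0.map (algebraMap A C)) y := by
      rw [formOfTbl, LinearMap.BilinMap.toQuadraticMap_apply, Matrix.toLinearMap₂'_apply', QEtSplit.q]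
      congr 2
      ext i j
      simp [B0, upperMat, apply_ite (algebraMap A C)]
    rw [h2, h1, hyp_apply]
    refine Finset.sum_congr rfl fun i _ => ?_
    have e0 : e y ⟨2 * i, by omega⟩ = -(h *ᵥ y) (.inl i) := by
      show sg (π.symm _) * (h *ᵥ y) (π.symm _) = _
      rw [show π.symm (⟨2 * i, by omega⟩ : Fin (2 * m)) = .inl i from π.symm_apply_apply (.inl i)]
      simp [sg]
    have e1 : e y ⟨2 * i + 1, by omega⟩ = (h *ᵥ y) (.inr i) := by
      show sg (π.symm _) * (h *ᵥ y) (π.symm _) = _
      rw [show π.symm (⟨2 * i + 1, by omega⟩ : Fin (2 * m)) = .inr i from π.symm_apply_apply (.inr i)]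
      simp [sg]
    rw [e0, e1, neg_mul, neg_neg]
  refine compat_of_coeffs b Q c (hyp C m) fun s => ?_
  induction s using Sym2.inductionOn with
  | hf i j =>
    have hval' : ∀ i, c i = e (Pi.single i 1) := fun i => by simp [c]
    have h0 := congrFun (coeffs_formOfTbl (algebraMap A C ∘ a)) (Sym2.mk i j)
    rw [Function.comp_apply] at h0
    refine h0.symm.trans ?_
    rw [QuadGrp.coeffs_mk, QuadGrp.coeffs_mk]
    simp only [LinearEquiv.refl_apply, QuadraticMap.polar, hval', ← map_add e, hval, Pi.basisFun_apply]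

end Point

section Cover

variable {V : Type u} [AddCommGroup V] [Module A V] {m : ℕ}
  (b : Module.Basis (Fin (2 * m)) A V) (Q : QuadraticForm A V)

/-- A faithfully flat extension turns the form into the hyperbolic one. -/
theorem exists_compat_cover (hQ : QuadGrp.IsRegular Q) :
    ∃ (C : Type u) (_ : CommRing C) (_ : Algebra A C), Module.FaithfullyFlat A C ∧
      Algebra.FinitePresentation A C ∧
      ∃ c : Module.Basis (Fin (2 * m)) C (Fin (2 * m) → C), Compat (algebraMap A C) b Q c (hyp C m) := by
  classical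
  choose C hC hA P het hP c hc using exists_compat_at b Q hQ
  have hop : ∀ p, IsOpen (Set.range (PrimeSpectrum.comap (algebraMap A (C p)))) := fun p => by
    haveI := het p
    exact (PrimeSpectrum.isOpenMap_comap_of_hasGoingDown_of_finitePresentation).isOpen_range
  obtain ⟨t, ht⟩ := isCompact_univ.elim_finite_subcover _ hop fun p _ =>
    Set.mem_iUnion.2 ⟨p, P p, PrimeSpectrum.ext (hP p)⟩
  let S : (↑t : Type u) → Type u := fun i => C i.1
  letI : ∀ i, CommRing (S i) := fun i => hC i.1
  letI : ∀ i, Algebra A (S i) := fun i => hA i.1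
  haveI : ∀ i, Algebra.Etale A (S i) := fun i => het i.1
  haveI : Module.FaithfullyFlat A (∀ i, S i) := Module.FaithfullyFlat.of_comap_surjective fun p => by
    obtain ⟨p', hp', q, hq⟩ := Set.mem_iUnion₂.1 (ht (Set.mem_univ p))
    refine ⟨PrimeSpectrum.comap (Pi.evalRingHom S ⟨p', hp'⟩) q, ?_⟩
    rw [← PrimeSpectrum.comap_comp_apply, ← hq]
    rfl
  let d : ∀ i : (↑t : Type u), Module.Basis (Fin (2 * m)) (S i) (Fin (2 * m) → S i) := fun i => c i.1
  let ψ : (Fin (2 * m) → ∀ i, S i) ≃ₗ[∀ i, S i] (Fin (2 * m) → ∀ i, S i) :=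
    { toFun := fun x k i => ((d i).equivFun.symm fun l => x l i) k
      map_add' := fun x y => by
        funext k i
        exact congrFun (map_add (d i).equivFun.symm (fun l => x l i) (fun l => y l i)) k
      map_smul' := fun r x => by
        funext k i
        exact congrFun (map_smul (d i).equivFun.symm (r i) (fun l => x l i)) k
      invFun := fun x k i => (d i).equivFun (fun l => x l i) k
      left_inv := fun x => by funext k i; exact congrFun ((d i).equivFun.apply_symm_apply (fun l => x l i)) k
      right_inv := fun x => by funext k i; exact congrFun ((d i).equivFun.symm_apply_apply (fun l => x l i)) k }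
  refine ⟨∀ i, S i, inferInstance, inferInstance, inferInstance, inferInstance, (Pi.basisFun _ _).map ψ, ?_⟩
  have hval : ∀ (j : Fin (2 * m)) (i : (↑t : Type u)), (fun l => (Pi.basisFun (∀ i, S i) _).map ψ j l i) = d i j := fun j i => by
    funext l
    show ((d i).equivFun.symm fun k => (Pi.basisFun (∀ i, S i) (Fin (2 * m))) j k i) l = _
    congr 1
    rw [Module.Basis.equivFun_symm_apply, Finset.sum_eq_single j (fun k _ hk => by simp [hk]) (by simp)]
    simp
  have hev : ∀ (x : Fin (2 * m) → ∀ i, S i) (i : (↑t : Type u)), hyp (∀ i, S i) m x i = hyp (S i) m (fun l => x l i) :=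
    fun x i => by simp [hyp_apply]
  refine ⟨fun j => funext fun i => ?_, fun j k hjk => funext fun i => ?_⟩
  · rw [hev, hval]
    exact (hc i.1).diag j
  · simp only [QuadraticMap.polar, Pi.sub_apply, hev]
    rw [show (fun l => ((Pi.basisFun (∀ i, S i) _).map ψ j + (Pi.basisFun (∀ i, S i) _).map ψ k) l i) = d i j + d i k by
      rw [← hval, ← hval]; rfl, hval, hval]
    exact (hc i.1).polar j k hjk

end Cover

section BaseChange

variable {R : Type u} [CommRing R] {M : Type u} [AddCommGroup M] [Module R M] {n : ℕ}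
variable (S : Type u) [CommRing S] [Algebra R S] {N : Type u} [AddCommGroup N] [Module S N] [Module R N]
  [IsScalarTower R S N]
variable {b : Module.Basis (Fin n) R M} {Q : QuadraticForm R M} {c : Module.Basis (Fin n) S N}
  {Q' : QuadraticForm S N} (h : Compat (algebraMap R S) b Q c Q')

include h in
/-- The comparison of a base change of the Clifford algebra. -/
theorem exists_baseChange : Nonempty ((S ⊗[R] CliffordAlgebra Q) ≃ₐ[S] CliffordAlgebra Q') := by
  classical
  let f₀ : CliffordAlgebra Q →ₐ[R] CliffordAlgebra Q' :=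
    { cmap h with
      commutes' := fun r => (cmap_algebraMap h r).trans (by
        exact (IsScalarTower.algebraMap_apply R S (CliffordAlgebra Q') r).symm) }
  let f := Algebra.TensorProduct.lift (Algebra.ofId S (CliffordAlgebra Q')) f₀ fun a y => Algebra.commutes a _
  let g : CliffordAlgebra Q' →ₗ[S] S ⊗[R] CliffordAlgebra Q :=
    ∑ T, (κ c Q' T).smulRight ((1 : S) ⊗ₜ[R] prodE b Q T)
  have hg : ∀ y, g y = ∑ T, κ c Q' T y • ((1 : S) ⊗ₜ[R] prodE b Q T) := fun y => by
    simp only [g, LinearMap.sum_apply]; rfl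
  have hgf : ∀ t, g (f t) = t := fun t => by
    induction t using TensorProduct.induction_on with
    | zero => simp
    | tmul a y =>
      have ha : ∀ T, κ c Q' T (f (a ⊗ₜ y)) = a * algebraMap R S (κ b Q T y) := fun T => by
        rw [← κ_cmap h, ← smul_eq_mul, ← map_smul, Algebra.smul_def]
        rfl
      rw [hg]
      conv_rhs => rw [eq_sum_κ b Q y, TensorProduct.tmul_sum]
      refine Finset.sum_congr rfl fun T _ => ?_
      rw [ha, TensorProduct.smul_tmul', smul_eq_mul, mul_one, ← TensorProduct.smul_tmul, Algebra.smul_def, mul_comm]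
    | add s t hs ht => rw [map_add, map_add, hs, ht]
  refine ⟨AlgEquiv.ofBijective f ⟨Function.LeftInverse.injective hgf, fun y => ⟨g y, ?_⟩⟩⟩
  rw [hg, map_sum]
  conv_rhs => rw [eq_sum_κ c Q' y]
  refine Finset.sum_congr rfl fun T _ => ?_
  rw [map_smul]
  show κ c Q' T y • (algebraMap S (CliffordAlgebra Q') 1 * f₀ (prodE b Q T)) = _
  rw [map_one, one_mul]
  exact congrArg _ (cmap_prodE h T)

end BaseChange

end Groth.Agent.CliffSplit
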