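import Groth.Agent.QFormLib.Structure

/-! The grading of the Clifford algebra of a hyperbolic form in matrix terms. -/

namespace Groth.Agent.CliffSplit

open CliffordAlgebra Matrix Groth.Agent.QFormLib

universe u

variable {A : Type u} [CommRing A]

/-- A surjection from the Clifford algebra of rank `2m` onto matrices of size `2^m` is bijective. -/
theorem bijective_of_surjective {m : ℕ} (T : QuadraticForm A (Fin (2 * m) → A))
    (f : CliffordAlgebra T →ₐ[A] Matrix (Fin (2 ^ m)) (Fin (2 ^ m)) A) (hf : Function.Surjective f) :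
    Function.Bijective f := by
  let bC := cliffBasis (Pi.basisFun A (Fin (2 * m))) T
  let bM := Matrix.stdBasis A (Fin (2 ^ m)) (Fin (2 ^ m))
  have hcard : Fintype.card (Finset (Fin (2 * m))) = Fintype.card (Fin (2 ^ m) × Fin (2 ^ m)) := by
    simp [two_mul, pow_add]
  let L := bM.equiv bC (Fintype.equivOfCardEq hcard).symm
  haveI : Module.Finite A (CliffordAlgebra T) := finite_clifford (Pi.basisFun A (Fin (2 * m))) T
  have h := OrzechProperty.bijective_of_surjective_endomorphism (L.toLinearMap ∘ₗ f.toLinearMap)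
    (L.surjective.comp hf)
  exact ⟨h.injective.of_comp (f := L), hf⟩

/-- `-(x₀x₁) - (x₂x₃) - …`: vectors act by matrices which are off-diagonal for some balanced parity of the index. -/
theorem exists_hyperbolic_graded (m : ℕ) : ∀ T : QuadraticForm A (Fin (2 * m) → A),
    (∀ x, T x = ∑ i : Fin m, -(x ⟨2 * i, by omega⟩ * x ⟨2 * i + 1, by omega⟩)) →
    ∃ (e : CliffordAlgebra T ≃ₐ[A] Matrix (Fin (2 ^ m)) (Fin (2 ^ m)) A) (s : Fin (2 ^ m) → Bool),
      (∀ x i j, s i = s j → e (ι T x) i j = 0) ∧
      (1 ≤ m → ∃ σ : Equiv.Perm (Fin (2 ^ m)), ∀ i, s (σ i) = !s i) := by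
  induction m with
  | zero =>
    intro T hT
    obtain ⟨e⟩ := nonempty_hyperbolic_matrix 0 T hT
    refine ⟨e, fun _ => false, fun x i j _ => ?_, fun h => absurd h (by omega)⟩
    rw [show x = 0 from funext fun k => absurd k.2 (by omega), map_zero, map_zero]
    rfl
  | succ m ih =>
    intro T hT
    let inc : (Fin (2 * m) → A) →ₗ[A] (Fin (2 * (m + 1)) → A) :=
      { toFun := fun y i => if h : (i : ℕ) < 2 * m then y ⟨i, h⟩ else 0
        map_add' := fun y z => by funext i; simp only [Pi.add_apply]; split_ifs <;> simp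
        map_smul' := fun c y => by funext i; simp only [Pi.smul_apply, RingHom.id_apply]; split_ifs <;> simp }
    let T' := T.comp inc
    have hT' : ∀ y, T' y = ∑ i : Fin m, -(y ⟨2 * i, by omega⟩ * y ⟨2 * i + 1, by omega⟩) := fun y => by
      rw [show T' y = T (inc y) from rfl, hT, Fin.sum_univ_castSucc]
      have e : ∀ (k : ℕ) (hk : k < 2 * (m + 1)), k < 2 * m → ∀ hk', inc y ⟨k, hk⟩ = y ⟨k, hk'⟩ :=
        fun k hk h hk' => dif_pos h
      have e' : ∀ (k : ℕ) (hk : k < 2 * (m + 1)), ¬k < 2 * m → inc y ⟨k, hk⟩ = 0 := fun k hk h => dif_neg h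
      simp only [Fin.coe_castSucc, Fin.val_last]
      rw [e' _ _ (by omega), zero_mul, neg_zero, add_zero]
      exact Finset.sum_congr rfl fun i _ => by
        rw [e _ _ (by omega) (by omega), e _ _ (by omega) (by omega)]
    obtain ⟨f, s, hs, -⟩ := ih T' hT'
    let pr : (Fin (2 * (m + 1)) → A) →ₗ[A] (Fin (2 * m) → A) := LinearMap.funLeft A A (Fin.castLE (by omega))
    let ia : Fin (2 * (m + 1)) := ⟨2 * m, by omega⟩
    let ib : Fin (2 * (m + 1)) := ⟨2 * m + 1, by omega⟩
    have hpi : ∀ v, pr (inc v) = v := fun v => by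
      funext i; exact dif_pos (show ((Fin.castLE _ i : Fin (2 * (m + 1))) : ℕ) < 2 * m from i.2)
    have hps : ∀ k : Fin (2 * (m + 1)), 2 * m ≤ k → pr (Pi.single k 1) = 0 := fun k hk => by
      funext i
      refine Pi.single_eq_of_ne (fun e => ?_) _
      have h1 : (i : ℕ) = (k : ℕ) := congrArg Fin.val e
      have := i.2
      omega
    obtain ⟨F, hFs, hF⟩ := hyperbolic_step T T' pr inc (LinearMap.proj ia) (LinearMap.proj ib)
      (fun x => by rw [hT, hT', Fin.sum_univ_castSucc]; rfl)
      hpi (fun v => dif_neg (by simp [ia])) (fun v => dif_neg (by simp [ib]))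
      (Pi.single ia 1) (hps ia le_rfl) (Pi.single_eq_same _ _) (Pi.single_eq_of_ne (by simp [ia, ib, Fin.ext_iff]) _)
      (Pi.single ib 1) (hps ib (Nat.le_succ _)) (Pi.single_eq_of_ne (by simp [ia, ib, Fin.ext_iff]) _) (Pi.single_eq_same _ _)
      f.toAlgHom f.surjective
    let e₂ : Fin 2 × Fin (2 ^ m) ≃ Fin (2 ^ (m + 1)) := finProdFinEquiv.trans (finCongr (by rw [pow_succ, mul_comm]))
    let c : Matrix (Fin 2) (Fin 2) (Matrix (Fin (2 ^ m)) (Fin (2 ^ m)) A) ≃ₐ[A] Matrix (Fin (2 ^ (m + 1))) (Fin (2 ^ (m + 1))) A :=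
      (Matrix.compAlgEquiv (Fin 2) (Fin (2 ^ m)) A A).trans (Matrix.reindexAlgEquiv A A e₂)
    let G := AlgEquiv.ofBijective (c.toAlgHom.comp F)
      (bijective_of_surjective T _ (c.surjective.comp hFs))
    let s' : Fin 2 × Fin (2 ^ m) → Bool := fun p => if p.1 = 0 then s p.2 else !s p.2
    refine ⟨G, s' ∘ e₂.symm, fun x i j hij => ?_, fun _ =>
      ⟨e₂.symm.trans ((Equiv.prodCongr (Equiv.swap 0 1) (Equiv.refl _)).trans e₂), fun i => ?_⟩⟩
    · show c (F (ι T x)) i j = 0
      simp only [Function.comp_apply] at hij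
      have hc : c (F (ι T x)) i j = F (ι T x) (e₂.symm i).1 (e₂.symm j).1 (e₂.symm i).2 (e₂.symm j).2 := rfl
      rw [hc, hF]
      generalize e₂.symm i = p at hij ⊢
      generalize e₂.symm j = q at hij ⊢
      obtain ⟨a, i⟩ := p
      obtain ⟨b, j⟩ := q
      have hne : s i = !s j → i ≠ j := fun h e => by subst e; cases s i <;> simp at h
      fin_cases a <;> fin_cases b <;> simp [s'] at hij ⊢
      · exact hs (pr x) i j hij
      · rw [Matrix.algebraMap_matrix_apply, if_neg (hne hij)]
      · rw [Matrix.algebraMap_matrix_apply, if_neg (hne (by rw [← hij]))]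
      · exact hs (pr x) i j hij
    · simp only [Function.comp_apply, Equiv.trans_apply, Equiv.symm_apply_apply]
      obtain ⟨a, i⟩ := e₂.symm i
      fin_cases a <;> simp [s']

variable {N : Type*} [AddCommGroup N] [Module A N] {Q : QuadraticForm A N} {k : ℕ}
  (e : CliffordAlgebra Q ≃ₐ[A] Matrix (Fin k) (Fin k) A) (s : Fin k → Bool)
  (hs : ∀ x i j, s i = s j → e (ι Q x) i j = 0)

include hs in
theorem apply_mul_of_odd (v : N) (M : Matrix (Fin k) (Fin k) A) (i j : Fin k) (p : Bool)
    (hM : ∀ l, s l ≠ p → M l j = 0) (hij : s i = p) : (e (ι Q v) * M) i j = 0 := by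
  rw [Matrix.mul_apply]
  refine Finset.sum_eq_zero fun l _ => ?_
  by_cases hl : s l = p
  · rw [hs v i l (hij.trans hl.symm), zero_mul]
  · rw [hM l hl, mul_zero]

include hs in
theorem apply_even {x : CliffordAlgebra Q} (hx : x ∈ evenOdd Q 0) : ∀ i j, s i ≠ s j → e x i j = 0 := by
  induction x, hx using CliffordAlgebra.even_induction with
  | algebraMap r =>
    intro i j hij
    rw [AlgEquiv.commutes, Matrix.algebraMap_matrix_apply, if_neg fun h => hij (congrArg s h)]
  | add x y _ _ hx hy => intro i j hij; rw [map_add, Matrix.add_apply, hx i j hij, hy i j hij, add_zero]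
  | ι_mul_ι_mul m₁ m₂ x _ ih =>
    intro i j hij
    rw [map_mul, map_mul, Matrix.mul_assoc]
    refine apply_mul_of_odd e s hs m₁ _ i j (!s j) (fun l hl => ?_) ?_
    · refine apply_mul_of_odd e s hs m₂ _ l j (s j) (fun l' hl' => ih l' j hl') ?_
      revert hl; cases s l <;> cases s j <;> simp
    · revert hij; cases s i <;> cases s j <;> simp

include hs in
theorem apply_odd {x : CliffordAlgebra Q} (hx : x ∈ evenOdd Q 1) : ∀ i j, s i = s j → e x i j = 0 := by
  induction x, hx using CliffordAlgebra.odd_induction with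
  | ι v => exact hs v
  | add x y _ _ hx hy => intro i j hij; rw [map_add, Matrix.add_apply, hx i j hij, hy i j hij, add_zero]
  | ι_mul_ι_mul m₁ m₂ x _ ih =>
    intro i j hij
    rw [map_mul, map_mul, Matrix.mul_assoc]
    refine apply_mul_of_odd e s hs m₁ _ i j (s j) (fun l hl => ?_) hij
    refine apply_mul_of_odd e s hs m₂ _ l j (!s j) (fun l' hl' => ih l' j ?_) ?_
    · revert hl'; cases s l' <;> cases s j <;> simp
    · revert hl; cases s l <;> cases s j <;> simp

/-- Matrices commuting with the parity are pairs of matrices. -/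
noncomputable def diagBlocks : Matrix {i // s i = false} {i // s i = false} A × Matrix {i // s i = true} {i // s i = true} A
    →ₗ[A] Matrix (Fin k) (Fin k) A where
  toFun P := Matrix.of fun i j =>
    if h : s i = false ∧ s j = false then P.1 ⟨i, h.1⟩ ⟨j, h.2⟩
    else if h : s i = true ∧ s j = true then P.2 ⟨i, h.1⟩ ⟨j, h.2⟩ else 0
  map_add' P P' := by
    ext i j
    simp only [Matrix.of_apply, Matrix.add_apply, Prod.fst_add, Prod.snd_add]
    split_ifs <;> simp
  map_smul' r P := by
    ext i j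
    simp only [Matrix.of_apply, Matrix.smul_apply, Prod.smul_fst, Prod.smul_snd, RingHom.id_apply]
    split_ifs <;> simp

/-- The even part of the Clifford algebra as diagonal blocks. -/
noncomputable def evenBlocks : ↥(CliffordAlgebra.even Q) →ₗ[A]
    Matrix {i // s i = false} {i // s i = false} A × Matrix {i // s i = true} {i // s i = true} A where
  toFun y := ((e y.1).submatrix Subtype.val Subtype.val, (e y.1).submatrix Subtype.val Subtype.val)
  map_add' y y' := by
    refine Prod.ext ?_ ?_ <;> ext i j <;> simp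
  map_smul' r y := by
    refine Prod.ext ?_ ?_ <;> ext i j <;> simp

include hs in
theorem evenBlocks_mul (y y' : ↥(CliffordAlgebra.even Q)) :
    evenBlocks e s (y * y') = evenBlocks e s y * evenBlocks e s y' := by
  refine Prod.ext ?_ ?_ <;> ext i j
  · show e (y.1 * y'.1) i.1 j.1 = ∑ l : {l // s l = false}, e y.1 i.1 l.1 * e y'.1 l.1 j.1
    rw [map_mul, Matrix.mul_apply, ← Finset.sum_subtype (Finset.univ.filter fun l => s l = false) (by simp)
      (fun l => e y.1 i.1 l * e y'.1 l j.1), Finset.sum_filter]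
    refine Finset.sum_congr rfl fun l _ => ?_
    split_ifs with hl
    · rfl
    · rw [apply_even e s hs y.2 i.1 l (by rw [i.2]; exact fun h => hl h.symm), zero_mul]
  · show e (y.1 * y'.1) i.1 j.1 = ∑ l : {l // s l = true}, e y.1 i.1 l.1 * e y'.1 l.1 j.1
    rw [map_mul, Matrix.mul_apply, ← Finset.sum_subtype (Finset.univ.filter fun l => s l = true) (by simp)
      (fun l => e y.1 i.1 l * e y'.1 l j.1), Finset.sum_filter]
    refine Finset.sum_congr rfl fun l _ => ?_
    split_ifs with hl
    · rfl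
    · rw [apply_even e s hs y.2 i.1 l (by rw [i.2]; exact fun h => hl h.symm), zero_mul]

include hs in
theorem evenBlocks_bijective : Function.Bijective (evenBlocks e s) := by
  refine ⟨(injective_iff_map_eq_zero _).2 fun y hy => Subtype.ext (e.injective ?_), fun P => ?_⟩
  · rw [ZeroMemClass.coe_zero, map_zero]
    ext i j
    rw [Matrix.zero_apply]
    by_cases hij : s i = s j
    · cases hb : s i
      · exact congrArg (fun P => P.1 ⟨i, hb⟩ ⟨j, hij ▸ hb⟩) hy
      · exact congrArg (fun P => P.2 ⟨i, hb⟩ ⟨j, hij ▸ hb⟩) hy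
    · exact apply_even e s hs y.2 i j hij
  · obtain ⟨x, hx⟩ := e.surjective (diagBlocks s P)
    obtain ⟨x0, hx0, x1, hx1, rfl⟩ := exists_even_odd_decomp Q x
    rw [map_add] at hx
    have key : ∀ i j, s i = s j → e x0 i j = diagBlocks s P i j := fun i j hij => by
      rw [← hx, Matrix.add_apply, apply_odd e s hs hx1 i j hij, add_zero]
    refine ⟨⟨x0, hx0⟩, Prod.ext ?_ ?_⟩ <;> ext i j
    · show e x0 i.1 j.1 = _
      rw [key _ _ (i.2.trans j.2.symm)]
      simp [diagBlocks, i.2, j.2]
    · show e x0 i.1 j.1 = _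
      rw [key _ _ (i.2.trans j.2.symm)]
      simp [diagBlocks, i.2, j.2]

include hs in
/-- The even part is a product of two matrix algebras. -/
theorem nonempty_even_prod (σ : Equiv.Perm (Fin k)) (hσ : ∀ i, s (σ i) = !s i) (d : ℕ) (hd : k = 2 * d) :
    Nonempty (↥(CliffordAlgebra.even Q) ≃ₐ[A] (Matrix (Fin d) (Fin d) A × Matrix (Fin d) (Fin d) A)) := by
  have h1 : evenBlocks e s 1 = 1 := by
    refine Prod.ext ?_ ?_ <;> ext i j <;>
      simp [evenBlocks, Matrix.one_apply, Subtype.coe_inj]
  let f := AlgEquiv.ofBijective (AlgHom.ofLinearMap (evenBlocks e s) h1 (evenBlocks_mul e s hs))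
    (evenBlocks_bijective e s hs)
  have hc : Fintype.card {i // s i = false} = Fintype.card {i // s i = true} :=
    Fintype.card_congr (σ.subtypeEquiv fun i => by rw [hσ]; simp)
  have hsum : Fintype.card {i // s i = false} + Fintype.card {i // s i = true} = 2 * d := by
    rw [← hd, ← Fintype.card_sum]
    refine (Fintype.card_congr ((Equiv.sumCongr (Equiv.refl _) (Equiv.subtypeEquivRight fun i => by simp)).trans
      (Equiv.sumCompl fun i => s i = false))).trans (Fintype.card_fin k)
  exact ⟨f.trans (AlgEquiv.prodCongr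
    (Matrix.reindexAlgEquiv A A (Fintype.equivFinOfCardEq (by omega)))
    (Matrix.reindexAlgEquiv A A (Fintype.equivFinOfCardEq (by omega))))⟩

end Groth.Agent.CliffSplit
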